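import Cfsg.Agent.H178.RG.Defs

/-!
# S5714, TEAM RG: the first moment bounds for the orthogonal groups (helper569)
-/

set_option autoImplicit false

namespace Cfsg.Agent.H569.RG

open Cfsg Cfsg.Agent.H178.RG
open Polynomial

section seq

variable {F : Type} [Field F]

/-- the recurrence functional -/
noncomputable def lrec (c : ℤ → F) (m : ℤ) (f : F[X]) : F := f.sum fun i a => a * c (m + i)

theorem lrec_add (c : ℤ → F) (m : ℤ) (f g : F[X]) : lrec c m (f + g) = lrec c m f + lrec c m g :=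
  Polynomial.sum_add_index f g _ (by simp) (by intros; ring)

theorem lrec_monomial (c : ℤ → F) (m : ℤ) (k : ℕ) (a : F) : lrec c m (monomial k a) = a * c (m + k) := by
  rw [lrec, Polynomial.sum_monomial_index _ _ (by simp)]

theorem lrec_lin (c : ℤ → F) (m : ℤ) (ζ : F) : lrec c m (X - C ζ) = c (m + 1) - ζ * c m := by
  have h : (X - C ζ : F[X]) = monomial 1 1 + monomial 0 (-ζ) := by
    rw [monomial_one_one_eq_X, monomial_zero_left, map_neg, sub_eq_add_neg]
  rw [h, lrec_add, lrec_monomial, lrec_monomial]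
  push_cast
  rw [add_zero]
  ring

theorem lrec_sq (c : ℤ → F) (m : ℤ) (ζ : F) :
    lrec c m ((X - C ζ) ^ 2) = c (m + 2) - 2 * ζ * c (m + 1) + ζ ^ 2 * c m := by
  have h : ((X - C ζ) ^ 2 : F[X]) = monomial 2 1 + (monomial 1 (- (2 * ζ)) + monomial 0 (ζ ^ 2)) := by
    simp only [← C_mul_X_pow_eq_monomial, map_neg, map_mul, map_pow, C_1]
    have h2 : (C (2 : F) : F[X]) = 2 := map_ofNat C 2
    rw [h2]
    ring
  rw [h, lrec_add, lrec_add, lrec_monomial, lrec_monomial, lrec_monomial]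
  push_cast
  rw [add_zero]
  ring

theorem lrec_cube (c : ℤ → F) (m : ℤ) :
    lrec c m ((X - 1) ^ 3) = c (m + 3) - 3 * c (m + 2) + 3 * c (m + 1) - c m := by
  have h : ((X - 1) ^ 3 : F[X]) = monomial 3 1 + (monomial 2 (-3) + (monomial 1 3 + monomial 0 (-1))) := by
    simp only [← C_mul_X_pow_eq_monomial, map_neg, C_1]
    have h2 : (C (3 : F) : F[X]) = 3 := map_ofNat C 3
    rw [h2]
    ring
  rw [h, lrec_add, lrec_add, lrec_add, lrec_monomial, lrec_monomial, lrec_monomial, lrec_monomial]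
  push_cast
  rw [add_zero]
  ring

/-- geometric sequences -/
theorem geom {c : ℤ → F} {ζ : F} (hζ : ζ ≠ 0) (h : ∀ m, c (m + 1) = ζ * c m) (i : ℤ) : c i = ζ ^ i * c 0 := by
  induction i using Int.induction_on with
  | zero => simp
  | succ k ih => rw [h, ih, zpow_add_one₀ hζ]; ring
  | pred k ih =>
    have h1 := h (-(k : ℤ) - 1)
    rw [sub_add_cancel, ih] at h1
    have h2 : ζ ^ (-(k : ℤ)) = ζ ^ (-(k : ℤ) - 1) * ζ := by
      rw [← zpow_add_one₀ hζ, sub_add_cancel]
    rw [h2] at h1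
    have h3 : ζ * (ζ ^ (-(k : ℤ) - 1) * c 0) = ζ * c (-(k : ℤ) - 1) := by
      rw [← h1]; ring
    exact (mul_left_cancel₀ hζ h3).symm

theorem seq_lin {c : ℤ → F} {ζ : F} (h : c ∈ SymSeq 1 1 (X - C ζ)) (m : ℤ) : c (m + 1) = ζ * c m := by
  have h1 : lrec c m (X - C ζ) = 0 := h.1 m
  rw [lrec_lin] at h1
  exact sub_eq_zero.1 h1

theorem seq_sq {c : ℤ → F} {ζ : F} (hζ : ζ ^ 2 = 1) (h2 : (2 : F) ≠ 0) (h : c ∈ SymSeq 1 1 ((X - C ζ) ^ 2)) (m : ℤ) :
    c (m + 1) = ζ * c m := by
  have hr : ∀ m, c (m + 2) - 2 * ζ * c (m + 1) + ζ ^ 2 * c m = 0 := fun m => by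
    rw [← lrec_sq]
    exact h.1 m
  have hs : c (-1) = c 1 := by
    have := h.2 1
    rwa [pow_one, one_mul] at this
  have hζ0 : ζ ≠ 0 := by
    rintro rfl
    norm_num at hζ
  -- the differences
  let d : ℤ → F := fun m => c (m + 1) - ζ * c m
  have hd : ∀ m, d (m + 1) = ζ * d m := fun m => by
    have h3 := hr m
    show c (m + 1 + 1) - ζ * c (m + 1) = ζ * (c (m + 1) - ζ * c m)
    rw [show m + 1 + 1 = m + 2 by ring]
    linear_combination h3
  have h0 : d 0 = 0 := by
    have h3 := hd (-1)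
    have h4 : d (-1) = c 0 - ζ * c 1 := by
      show c (-1 + 1) - ζ * c (-1) = _
      rw [hs, neg_add_cancel]
    rw [h4, neg_add_cancel] at h3
    have h5 : d 0 = c 1 - ζ * c 0 := by
      show c (0 + 1) - ζ * c 0 = _
      rw [zero_add]
    rw [h5] at h3 ⊢
    have h6 : 2 * (c 1 - ζ * c 0) = 0 := by
      linear_combination h3 + (-c 1) * hζ
    exact (mul_eq_zero.1 h6).resolve_left h2
  have h7 := geom hζ0 hd m
  rw [h0, mul_zero] at h7
  exact sub_eq_zero.1 h7

theorem seq_cube (h2 : (2 : F) = 0) {c : ℤ → F} (h : c ∈ SymSeq 1 1 ((X - 1) ^ 3)) (m : ℤ) : c (m + 2) = c m := by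
  have hr : ∀ m, c (m + 3) - 3 * c (m + 2) + 3 * c (m + 1) - c m = 0 := fun m => by
    rw [← lrec_cube]
    exact h.1 m
  have hs : c (-1) = c 1 := by
    have := h.2 1
    rwa [pow_one, one_mul] at this
  let d : ℤ → F := fun m => c (m + 2) - c m
  have hd : ∀ m, d (m + 1) = 1 * d m := fun m => by
    have h3 := hr m
    show c (m + 1 + 2) - c (m + 1) = 1 * (c (m + 2) - c m)
    rw [show m + 1 + 2 = m + 3 by ring]
    linear_combination h3 + (c (m + 2) - 2 * c (m + 1) + c m) * h2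
  have h0 : d (-1) = 0 := by
    show c (-1 + 2) - c (-1) = 0
    rw [hs]
    norm_num
  have h7 := geom one_ne_zero hd m
  have h8 := geom one_ne_zero hd (-1)
  rw [h0, one_zpow, one_mul] at h8
  rw [← h8, mul_zero] at h7
  exact sub_eq_zero.1 h7

theorem even_of_two {c : ℤ → F} (h : ∀ m, c (m + 2) = c m) (i : ℤ) : c i = if Even i then c 0 else c 1 := by
  have key : ∀ k : ℤ, c (2 * k) = c 0 ∧ c (2 * k + 1) = c 1 := by
    intro k
    induction k using Int.induction_on with
    | zero => simp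
    | succ k ih =>
      constructor
      · rw [← ih.1, ← h (2 * (k : ℤ))]
        congr 1
      · rw [← ih.2, ← h (2 * (k : ℤ) + 1)]
        congr 1
    | pred k ih =>
      constructor
      · rw [← ih.1, ← h (2 * (-(k : ℤ) - 1))]
        congr 1
        ring
      · rw [← ih.2, ← h (2 * (-(k : ℤ) - 1) + 1)]
        congr 1
        ring
  rcases Int.even_or_odd' i with ⟨k, rfl | rfl⟩
  · rw [(key k).1, if_pos ⟨k, by ring⟩]
  · rw [(key k).2, if_neg (Int.not_even_iff_odd.2 ⟨k, rfl⟩)]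

end seq

section gram

variable {F : Type} [Field F] {ι : Type} [Fintype ι] [DecidableEq ι] {G : Type} [Group G]

/-- the vector `f (x) v` as a sum -/
theorem aeval_mulVec (x : Matrix ι ι F) (f : F[X]) (v : ι → F) :
    (aeval x f).mulVec v = ∑ i ∈ Finset.range (f.natDegree + 1), f.coeff i • (x ^ i).mulVec v := by
  rw [aeval_eq_sum_range, Matrix.sum_mulVec]
  exact Finset.sum_congr rfl fun i _ => Matrix.smul_mulVec _ _ _

/-- The Gram value of `g (x) v`. -/
noncomputable def gramv (g : F[X]) (c : ℤ → F) (k : ℤ) : F :=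
  ∑ i ∈ Finset.range (g.natDegree + 1), ∑ j ∈ Finset.range (g.natDegree + 1),
    g.coeff i * (g.coeff j * c (k + i - j))

variable {B : (ι → F) →ₗ[F] (ι → F) →ₗ[F] F} (ρ : G →* Matrix ι ι F)

theorem gramv_eq (hρ : ∀ g v w, B ((ρ g).mulVec v) ((ρ g).mulVec w) = B v w) (g : F[X]) (x : G) (v : ι → F) (k : ℤ) :
    B ((ρ (x ^ k)).mulVec ((aeval (ρ x) g).mulVec v)) ((aeval (ρ x) g).mulVec v) =
      gramv g (fun i : ℤ => B ((ρ (x ^ i)).mulVec v) v) k := by
  have hpow : ∀ i : ℕ, (ρ x) ^ i = ρ (x ^ (i : ℤ)) := fun i => by rw [zpow_natCast, map_pow]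
  rw [aeval_mulVec, Matrix.mulVec_sum, LinearMap.map_sum₂, gramv]
  refine Finset.sum_congr rfl fun i _ => ?_
  rw [map_sum]
  refine Finset.sum_congr rfl fun j _ => ?_
  rw [Matrix.mulVec_smul, LinearMap.map_smul₂, map_smul, smul_eq_mul, smul_eq_mul,
    Matrix.mulVec_mulVec, hpow, hpow, ← map_mul, ← zpow_add]
  have h1 : (ρ (x ^ (k + i))).mulVec v = (ρ (x ^ (j : ℤ))).mulVec ((ρ (x ^ (k + i - j))).mulVec v) := by
    rw [Matrix.mulVec_mulVec, ← map_mul, ← zpow_add]
    congr 3
    ring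
  rw [h1, hρ]

end gram

section fm

variable {F ι : Type} [Field F] [Fintype F] [Fintype ι] [DecidableEq ι]

theorem fm_mono {G : Type} [Group G] {ρ : G →* Matrix ι ι F} {f : F[X]} {c d : ℝ} (h : FM ρ f c) (hcd : c ≤ d) :
    FM ρ f d := h.trans (mul_le_mul_of_nonneg_right hcd (Nat.cast_nonneg _))

variable (Q : QuadraticForm F (ι → F))

/-- the natural representation -/
noncomputable abbrev rep : isometryGroup F Q →* Matrix ι ι F :=
  (Units.coeHom (Matrix ι ι F)).comp (isometryGroup F Q).subtype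

theorem rep_Q (g : isometryGroup F Q) (v : ι → F) : Q ((rep Q g).mulVec v) = Q v := g.2 v v

theorem rep_polar (g : isometryGroup F Q) (v w : ι → F) :
    QuadraticMap.polar Q ((rep Q g).mulVec v) ((rep Q g).mulVec w) = QuadraticMap.polar Q v w := by
  unfold QuadraticMap.polar
  rw [← Matrix.mulVec_add, rep_Q, rep_Q, rep_Q]

theorem isForm (hQ : (QuadraticMap.polarBilin Q).Nondegenerate) :
    IsForm 1 (1 : F) (fun v w : ι → F => QuadraticMap.polar Q v w) where
  hs := Or.inl rfl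
  add_left u v w := QuadraticMap.polar_add_left Q u v w
  smul_left a v w := QuadraticMap.polar_smul_left Q a v w
  symm v w := by rw [pow_one, one_mul, QuadraticMap.polar_comm]
  nondeg v h := hQ.1 v h

/-- the Gram data of a vector -/
noncomputable def gram (x : isometryGroup F Q) (v : ι → F) : ℤ → F :=
  fun i : ℤ => QuadraticMap.polar Q ((rep Q (x ^ i)).mulVec v) v

theorem gram_zero (x : isometryGroup F Q) (v : ι → F) : gram Q x v 0 = 2 * Q v := by
  show QuadraticMap.polar Q ((rep Q (x ^ (0 : ℤ))).mulVec v) v = _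
  rw [zpow_zero, map_one, Matrix.one_mulVec, QuadraticMap.polar_self, nsmul_eq_mul]
  norm_num

/-- `Q v` is determined by the Gram data if `f` is coprime to `X - 1` -/
theorem Q_eq {f g h : F[X]} (hg : g * (X - 1) + h * f = 1) {x : isometryGroup F Q} {v : ι → F}
    (hf : (aeval (rep Q x) f).mulVec v = 0) : Q v = gramv g (gram Q x v) 0 - gramv g (gram Q x v) 1 := by
  set w := (aeval (rep Q x) g).mulVec v with hw
  have h1 : v = (rep Q x).mulVec w - w := by
    have h2 := congrArg (fun p => (aeval (rep Q x) p).mulVec v) hg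
    simp only [map_add, map_mul, map_sub, map_one, aeval_X, Matrix.add_mulVec, Matrix.one_mulVec] at h2
    rw [← Matrix.mulVec_mulVec v (aeval (rep Q x) h), hf, Matrix.mulVec_zero, add_zero] at h2
    rw [← h2, hw, Matrix.mulVec_mulVec]
    have h3 : aeval (rep Q x) g * (rep Q x - 1) = (rep Q x - 1) * aeval (rep Q x) g := by
      have h4 : g * (X - 1) = (X - 1) * g := mul_comm _ _
      have h5 := congrArg (aeval (rep Q x)) h4
      simpa only [map_mul, map_sub, map_one, aeval_X] using h5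
    rw [h3, Matrix.sub_mul, Matrix.one_mul, Matrix.sub_mulVec]
  have h6 : Q v = QuadraticMap.polar Q w w - QuadraticMap.polar Q ((rep Q x).mulVec w) w := by
    have h7 : Q v = Q ((rep Q x).mulVec w + -w) := by rw [← sub_eq_add_neg, ← h1]
    have h8 := QuadraticMap.polar_neg_right Q ((rep Q x).mulVec w) w
    rw [h7]
    unfold QuadraticMap.polar at h8 ⊢
    rw [QuadraticMap.map_neg] at h8
    have h9 : Q (w + w) = 4 * Q w := by
      rw [← two_smul F w, QuadraticMap.map_smul]
      rw [smul_eq_mul]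
      norm_num
    rw [h9]
    linear_combination h8 + rep_Q Q x w
  have h10 : ∀ k : ℤ, QuadraticMap.polar Q ((rep Q (x ^ k)).mulVec w) w = gramv g (gram Q x v) k := fun k =>
    gramv_eq (B := QuadraticMap.polarBilin Q) (rep Q) (rep_polar Q) g x v k
  have h11 := h10 0
  have h12 := h10 1
  rw [zpow_zero, map_one, Matrix.one_mulVec] at h11
  rw [zpow_one] at h12
  rw [h6, h11, h12]

theorem ncard_range_le {α β : Type} [Finite α] (φ : α → β) : (Set.range φ).ncard ≤ Nat.card α := by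
  rw [← Set.image_univ, ← Set.ncard_univ]
  exact Set.ncard_image_le Set.finite_univ

/-- The first moment bounds for the orthogonal groups, from the other parts of the project. -/
theorem fms_o_of
    (hform : ∀ (f : F[X]) (S : Set ((ℤ → F) × F)), S.Finite →
      (∀ (x : isometryGroup F Q) (v : ι → F), Ann (rep Q x) v f → (gram Q x v, Q v) ∈ S) → FM (rep Q) f S.ncard)
    (hsym : ∀ {f : F[X]} {x : isometryGroup F Q} {v : ι → F}, Ann (rep Q x) v f → gram Q x v ∈ SymSeq 1 1 f)
    (hdual : ∀ x : isometryGroup F Q, dualP 1 (rep Q x).charpoly = (rep Q x).charpoly)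
    (hcard : ∀ {f : F[X]}, f.Monic → f.coeff 0 ≠ 0 → ∀ {e : ℕ},
      (∀ g : F[X], g ∣ f → g ∣ dualP 1 f → g.natDegree ≤ e) → IsCoprime f (X ^ 2 - 1) →
      (SymSeq 1 (1 : F) f).Finite ∧ ((SymSeq 1 (1 : F) f).ncard : ℝ) ≤ √(Fintype.card F) ^ e)
    (hcard' : ∀ {f : F[X]}, f.Monic → f.coeff 0 ≠ 0 →
      (SymSeq 1 (1 : F) f).Finite ∧ ((SymSeq 1 (1 : F) f).ncard : ℝ) ≤ √(Fintype.card F) ^ (f.natDegree + 2)) :
    FMS 1 (rep Q) ∧
    (∀ ζ : F, ζ ^ 2 = 1 → FM (rep Q) (X - C ζ) (Fintype.card F)) ∧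
    (Odd (Fintype.card F) → ∀ ζ : F, ζ ^ 2 = 1 → FM (rep Q) ((X - C ζ) ^ 2) (Fintype.card F)) ∧
    (Even (Fintype.card F) → FM (rep Q) ((X - 1) ^ 3) ((Fintype.card F : ℝ) ^ 2)) := by
  classical
  have hzero : ∀ {f : F[X]} {x : isometryGroup F Q} {v : ι → F}, Ann (rep Q x) v f →
      (aeval (rep Q x) f).mulVec v = 0 := fun h => (h _).2 dvd_rfl
  -- sequences determined by the value of `Q`
  have key1 : ∀ (ζ : F) (f : F[X]), ζ ≠ 0 → (∀ c ∈ SymSeq 1 (1 : F) f, ∀ m, c (m + 1) = ζ * c m) →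
      FM (rep Q) f (Fintype.card F) := by
    intro ζ f hζ hf
    refine fm_mono (hform f (Set.range fun a : F => (fun i : ℤ => ζ ^ i * (2 * a), a)) (Set.finite_range _)
      fun x v hv => ⟨Q v, ?_⟩) ?_
    · refine Prod.ext (funext fun i => ?_) rfl
      show ζ ^ i * (2 * Q v) = gram Q x v i
      rw [geom hζ (hf _ (hsym hv)) i, gram_zero]
    · rw [← Nat.card_eq_fintype_card]
      exact_mod_cast ncard_range_le _
  refine ⟨⟨Or.inl le_rfl, ?_, ?_, fun _ => hdual⟩, ?_, ?_, ?_⟩
  · -- f coprime to `X ^ 2 - 1`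
    intro f hm h0 hc e he
    obtain ⟨hfin, hle⟩ := hcard hm h0 (he one_ne_zero) (hc rfl)
    obtain ⟨a, b, hab⟩ := hc rfl
    refine fm_mono (hform f ((fun c : ℤ → F => (c, gramv (b * (X + 1)) c 0 - gramv (b * (X + 1)) c 1)) '' SymSeq 1 (1 : F) f)
      (hfin.image _) fun x v hv => ⟨gram Q x v, hsym hv, ?_⟩) ?_
    · refine Prod.ext rfl ?_
      refine (Q_eq Q (f := f) (h := a) ?_ (hzero hv)).symm
      linear_combination hab
    · refine le_trans ?_ hle
      exact_mod_cast Set.ncard_image_le hfin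
  · -- all polynomials
    intro _ f hm h0
    obtain ⟨hfin, hle⟩ := hcard' hm h0
    refine fm_mono (hform f (SymSeq 1 (1 : F) f ×ˢ Set.univ) (hfin.prod Set.finite_univ)
      fun x v hv => ⟨hsym hv, trivial⟩) ?_
    rw [Set.ncard_prod, Set.ncard_univ, Nat.card_eq_fintype_card]
    push_cast
    have h1 : (√(Fintype.card F : ℝ)) ^ (f.natDegree + 4) = (√(Fintype.card F : ℝ)) ^ (f.natDegree + 2) * Fintype.card F := by
      rw [show f.natDegree + 4 = (f.natDegree + 2) + 2 by ring, pow_add _ (f.natDegree + 2) 2, Real.sq_sqrt (Nat.cast_nonneg _)]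
    rw [h1]
    exact mul_le_mul_of_nonneg_right hle (Nat.cast_nonneg _)
  · intro ζ hζ
    refine key1 ζ _ ?_ fun c hc m => seq_lin hc m
    rintro rfl
    norm_num at hζ
  · intro hodd ζ hζ
    have h2 : (2 : F) ≠ 0 := by
      intro h2
      have hch : CharP F 2 := CharTwo.of_one_ne_zero_of_two_eq_zero one_ne_zero h2
      obtain ⟨n, -, hn⟩ := FiniteField.card F 2
      rw [hn] at hodd
      exact (Nat.not_even_iff_odd.2 hodd) (Nat.even_pow.2 ⟨even_two, n.ne_zero⟩)
    refine key1 ζ _ ?_ fun c hc m => seq_sq hζ h2 hc m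
    rintro rfl
    norm_num at hζ
  · intro heven
    have h2 : (2 : F) = 0 := by
      by_contra h2
      have h3 : ringChar F ≠ 2 := fun h => h2 (by
        have : CharP F 2 := by rw [← h]; infer_instance
        exact CharTwo.two_eq_zero)
      exact (Nat.not_even_iff_odd.2 (Nat.odd_iff.2 (FiniteField.odd_card_of_char_ne_two h3))) heven
    refine fm_mono (hform _ (Set.range fun a : F × F => (fun i : ℤ => if Even i then (0 : F) else a.2, a.1))
      (Set.finite_range _) fun x v hv => ⟨(Q v, gram Q x v 1), ?_⟩) ?_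
    · refine Prod.ext (funext fun i => ?_) rfl
      show (if Even i then (0 : F) else gram Q x v 1) = gram Q x v i
      rw [even_of_two (seq_cube h2 (hsym hv)) i, gram_zero, h2, zero_mul]
    · rw [pow_two, ← Nat.card_eq_fintype_card]
      have := ncard_range_le (fun a : F × F => ((fun i : ℤ => if Even i then (0 : F) else a.2, a.1) : (ℤ → F) × F))
      rw [Nat.card_prod] at this
      exact_mod_cast this

end fm

end Cfsg.Agent.H569.RG
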