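import Cfsg.Agent.H569.RG.FmsOPre
import Cfsg.Agent.H833.RG.WittO

/-!
# S5714, TEAM RG: the first moment bounds for the orthogonal groups (helper569)
-/

set_option autoImplicit false

namespace Cfsg.Agent.H569.RG

open Cfsg Cfsg.Agent.H178.RG
open Polynomial

variable {F : Type} [Field F] [Fintype F]

theorem fms_o {ι : Type} [Fintype ι] [DecidableEq ι] (Q : QuadraticForm F (ι → F))
    (hQ : (QuadraticMap.polarBilin Q).Nondegenerate) :
    FMS 1 ((Units.coeHom (Matrix ι ι F)).comp (isometryGroup F Q).subtype) ∧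
    (∀ ζ : F, ζ ^ 2 = 1 → FM ((Units.coeHom (Matrix ι ι F)).comp (isometryGroup F Q).subtype) (X - C ζ) (Fintype.card F)) ∧
    (Odd (Fintype.card F) → ∀ ζ : F, ζ ^ 2 = 1 → FM ((Units.coeHom (Matrix ι ι F)).comp (isometryGroup F Q).subtype)
      ((X - C ζ) ^ 2) (Fintype.card F)) ∧
    (Even (Fintype.card F) → FM ((Units.coeHom (Matrix ι ι F)).comp (isometryGroup F Q).subtype)
      ((X - 1) ^ 3) ((Fintype.card F : ℝ) ^ 2)) :=
  fms_o_of_witt Q hQ (H833.RG.witt_o Q hQ)

end Cfsg.Agent.H569.RG
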