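import Cfsg.Agent.H569.RG.FmsO
import Cfsg.Agent.H680.RG.FmCore
import Cfsg.Agent.H689.RG.Dual
import Cfsg.Agent.H127.Rg.SymSeq
import Cfsg.Agent.H388.RG.SymSeq

/-!
# S5714, TEAM RG: the first moment bounds for the orthogonal groups, from `WittP` (helper569)
-/

set_option autoImplicit false

namespace Cfsg.Agent.H569.RG

open Cfsg Cfsg.Agent.H178.RG
open Polynomial

variable {F : Type} [Field F] [Fintype F]

theorem fms_o_of_witt {ι : Type} [Fintype ι] [DecidableEq ι] (Q : QuadraticForm F (ι → F))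
    (hQ : (QuadraticMap.polarBilin Q).Nondegenerate)
    (hW : WittP ((Units.coeHom (Matrix ι ι F)).comp (isometryGroup F Q).subtype)
      (fun v w => QuadraticMap.polar Q v w) Q) :
    FMS 1 ((Units.coeHom (Matrix ι ι F)).comp (isometryGroup F Q).subtype) ∧
    (∀ ζ : F, ζ ^ 2 = 1 → FM ((Units.coeHom (Matrix ι ι F)).comp (isometryGroup F Q).subtype) (X - C ζ) (Fintype.card F)) ∧
    (Odd (Fintype.card F) → ∀ ζ : F, ζ ^ 2 = 1 → FM ((Units.coeHom (Matrix ι ι F)).comp (isometryGroup F Q).subtype)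
      ((X - C ζ) ^ 2) (Fintype.card F)) ∧
    (Even (Fintype.card F) → FM ((Units.coeHom (Matrix ι ι F)).comp (isometryGroup F Q).subtype)
      ((X - 1) ^ 3) ((Fintype.card F : ℝ) ^ 2)) :=
  fms_o_of Q (fun f S hS h => H178.RG.fm_form _ hW f S hS h)
    (fun h => H689.RG.symSeq_of _ (isForm Q hQ) (rep_polar Q) h)
    (fun x => H689.RG.dual_charpoly _ (isForm Q hQ) (rep_polar Q) x)
    (fun hm h0 _ he hc => H127.Rg.card_symSeq one_ne_zero hm h0 he (Or.inr ⟨rfl, hc⟩))
    (fun hm h0 => H388.RG.card_symSeq' one_ne_zero hm h0)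

end Cfsg.Agent.H569.RG
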